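import Cfsg.Agent.H459.Ore.Frame
import Cfsg.Agent.H459.TC.Alt
import Cfsg.Agent.H962.TC.Psl2
import Cfsg.Agent.H922.TC.LThreeAll
import Cfsg.Agent.H962.TC.Psl
import Cfsg.Agent.H950.TC.Psu
import Cfsg.Agent.S0255
import Cfsg.Agent.H588.TW.Defs
import Cfsg.Agent.H910.TC.Sp43
import Cfsg.Agent.H812.TC.EvenRow
import Cfsg.Agent.H843.TC6.Row
import Cfsg.Agent.H126.TC.Plus
import Cfsg.Agent.H126.TC.SpEven
import Cfsg.Agent.H367.TC.SixO

/-!
# S2452: alternating and classical rows, the open rows as hypotheses (helper142)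

The predicate is `P52 G : G not commutative → T52 G`.
-/

set_option autoImplicit false

namespace Cfsg.Agent.H142.TW

open Cfsg.Agent.H588.TW

universe u

/-- the predicate of the frame -/
def P52 (G : Type u) [Group G] : Prop := ¬ IsMulCommutative G → T52 G

theorem P52.of_row3 {G : Type u} [Group G] (h : Cfsg.Agent.H210.TC.Row3 G) : P52 G := fun _ => T52.of_row3 h

theorem P52.of_pp {G : Type u} [Group G] (h : Cfsg.Agent.H494.TC.PP G) : P52 G := fun hG => T52.of_pp hG h

theorem P52.of_xx {G : Type u} [Group G] (h : Cfsg.Agent.H51.XX.RowXX G) : P52 G := fun hG => T52.of_xx hG h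

theorem P52.of_t52 {G : Type u} [Group G] (h : T52 G) : P52 G := fun _ => h

theorem P52.of_equiv_pp {G : Type u} {H : Type*} [Group G] [Group H] (e : G ≃* H) (h : Cfsg.Agent.H494.TC.PP H) : P52 G :=
  P52.of_pp (Cfsg.Agent.H494.TC.PP.of_equiv e h)

theorem P52.of_equiv_row3 {G : Type u} {H : Type*} [Group G] [Group H] (e : G ≃* H) (h : Cfsg.Agent.H210.TC.Row3 H) :
    P52 G := P52.of_row3 (Cfsg.Agent.H210.TC.Row3.of_equiv e h)

theorem p_alt {G : Type u} [Group G] (h : IsAlternating G) : P52 G :=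
  P52.of_row3 (Cfsg.Agent.H459.TC.row3_isAlternating h)

theorem t52_psl_two {F : Type} [Field F] [Fintype F] (h : 4 ≤ Fintype.card F) :
    T52 (Matrix.ProjectiveSpecialLinearGroup (Fin 2) F) := Cfsg.Agent.H962.TC.s2452_psl_two h

theorem p_psl {G : Type u} [Group G] (h : IsPSL G) : P52 G := by
  obtain ⟨F, _, _, n, hn, h4, ⟨e⟩⟩ := h
  rcases (show n = 2 ∨ n = 3 ∨ 4 ≤ n by omega) with rfl | rfl | hn4
  · exact P52.of_t52 (T52.of_equiv e (t52_psl_two (h4 rfl)))
  · by_cases h2 : Nat.card F = 2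
    · have : Fact (Nat.Prime 7) := ⟨by norm_num⟩
      obtain ⟨f⟩ := Cfsg.Agent.S0255.result (F := ZMod 7) (K := F) (ZMod.card 7) (by rw [← Nat.card_eq_fintype_card, h2])
      exact P52.of_t52 (T52.of_equiv (e.trans f.symm) (t52_psl_two (by rw [ZMod.card]; norm_num)))
    · exact P52.of_equiv_pp e (Cfsg.Agent.H922.TC.L3.pp_psl_three_all F h2)
  · exact P52.of_equiv_pp e (Cfsg.Agent.H962.TC.pp_psl hn4 F)

/-- open rows of the symplectic groups -/
structure SpOpen : Prop where
  /-- `PSp₄(q)`, `q ≥ 5` odd -/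
  four : ∀ (F : Type) [Field F] [Fintype F], 5 ≤ Fintype.card F → Fintype.card F % 2 = 1 → P52 (PSp 2 F)
  /-- `PSp₂ₙ(q)`, `q` odd, `4 ∣ n` -/
  odd : ∀ (F : Type) [Field F] [Fintype F] (m : ℕ), 4 ≤ m → m % 4 = 0 → Fintype.card F % 2 = 1 → P52 (PSp m F)

theorem two_ne {F : Type} [Field F] [Fintype F] (h : Fintype.card F % 2 = 1) : (2 : F) ≠ 0 := by
  intro h0
  have : CharP F 2 := CharTwo.of_one_ne_zero_of_two_eq_zero one_ne_zero h0
  have h3 := (FiniteField.even_card_iff_char_two (F := F)).1 (ringChar.eq F 2)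
  omega

theorem two_eq {F : Type} [Field F] [Fintype F] (h : Fintype.card F % 2 = 0) : (2 : F) = 0 := by
  have h3 := (FiniteField.even_card_iff_char_two (F := F)).2 h
  have h4 : CharP F (ringChar F) := ringChar.charP F
  rw [h3] at h4
  exact_mod_cast CharP.cast_eq_zero F 2

theorem P52.congr_equiv {G : Type u} {H : Type*} [Group G] [Group H] (e : G ≃* H) (h : P52 H) : P52 G := by
  intro hG
  refine T52.of_equiv e (h fun hH => hG ?_)
  refine ⟨⟨fun a b => e.injective ?_⟩⟩
  rw [map_mul, map_mul]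
  exact hH.is_comm.comm _ _

theorem p_psp (O : SpOpen) {G : Type u} [Group G] (h : IsPSp G) : P52 G := by
  obtain ⟨F, _, _, m, hm, h3, ⟨e⟩⟩ := h
  have h2 : 2 ≤ Fintype.card F := Fintype.one_lt_card
  rcases Nat.mod_two_eq_zero_or_one (Fintype.card F) with he | ho
  · rcases (show m = 2 ∨ 3 ≤ m by omega) with rfl | hm3
    · exact P52.of_equiv_row3 e (Cfsg.Agent.H812.TC.EvenRow.row3_even (h3 rfl) he)
    · exact P52.of_equiv_row3 e (Cfsg.Agent.H126.TC.Sp.row3_psp_even hm3 F (two_eq he))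
  · rcases (show m = 2 ∨ 3 ≤ m by omega) with rfl | hm3
    · by_cases hq : Fintype.card F = 3
      · exact P52.of_equiv_row3 e (Cfsg.Agent.H910.TC.row3_psp43 (by rw [Nat.card_eq_fintype_card, hq]))
      · exact P52.congr_equiv e (O.four F (by omega) ho)
    · by_cases h4 : m % 4 = 0
      · exact P52.congr_equiv e (O.odd F m (by omega) h4 ho)
      · exact P52.of_equiv_row3 e (Cfsg.Agent.H843.TC6.row3_psp hm3 h4 F (two_ne ho))

theorem p_psu (three : ∀ (F : Type) [Field F] [Fintype F] (q : ℕ), Fintype.card F = q ^ 2 → 3 ≤ q → P52 (PSU 3 F q))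
    {G : Type u} [Group G] (h : IsPSU G) : P52 G := by
  obtain ⟨F, _, _, n, q, hF, hn, hex, ⟨e⟩⟩ := h
  rcases hn.eq_or_lt with rfl | hn4
  · have hq := LieClassical.HermBasic.two_le hF
    exact P52.congr_equiv e (three F q hF (by
      by_contra hcon
      exact hex ⟨rfl, by omega⟩))
  · exact P52.of_equiv_row3 e (Cfsg.Agent.H950.TC.row3_psu hF hn4)

theorem p_plus {G : Type u} [Group G] (h : IsPOmegaPlus G) : P52 G := by
  obtain ⟨F, _, _, m, hm, ⟨e⟩⟩ := h
  rcases Nat.even_or_odd m with he | ho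
  · exact P52.of_equiv_row3 e (Cfsg.Agent.H126.TC.row3_plus hm he)
  · exact P52.of_row3 (Cfsg.Agent.H367.TC.row3_plus_odd hm ho e)

theorem p_minus {G : Type u} [Group G] (h : IsPOmegaMinus G) : P52 G :=
  P52.of_row3 (Cfsg.Agent.H367.TC.row3_minus h)

/-- the alternating and classical rows of S2452 from the open rows -/
theorem p_cls (O : SpOpen)
    (three : ∀ (F : Type) [Field F] [Fintype F] (q : ℕ), Fintype.card F = q ^ 2 → 3 ≤ q → P52 (PSU 3 F q))
    (odd : ∀ {G : Type u} [Group G], IsPOmegaOdd G → P52 G) :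
    Cfsg.Agent.H459.Ore.ClsRows.{u} (fun G _ => P52 G) where
  alt := fun h => p_alt h
  psl := fun h => p_psl h
  psp := fun h => p_psp O h
  psu := fun h => p_psu three h
  poo := fun h => odd h
  pop := fun h => p_plus h
  pom := fun h => p_minus h

end Cfsg.Agent.H142.TW
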