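import Cfsg.Agent.H142.TW.Cls
import Cfsg.Agent.H504.TC.ExcK
import Cfsg.Agent.H937.TC.RankOne
import Cfsg.Agent.H110.TC6.TwF

/-!
# S2452: the exceptional rows, the open rows as hypotheses (helper142)
-/

set_option autoImplicit false

namespace Cfsg.Agent.H142.TW

open Cfsg.Agent.H588.TW

universe u

/-- the exceptional rows of S2452 from the open rows -/
theorem p_exc (g2 : ∀ {G : Type u} [Group G], Lie.IsoChevG2 G → P52 G)
    (f4 : ∀ {G : Type u} [Group G], Lie.IsoF4 G → P52 G)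
    (e8 : ∀ {G : Type u} [Group G], Lie.IsoE8 G → P52 G) (d4 : ∀ {G : Type u} [Group G], Lie.Iso3D4 G → P52 G)
    (tf4 : ∀ {G : Type u} [Group G], Lie.Iso2F4 G → P52 G) :
    Cfsg.Agent.H459.Ore.ExcRows.{u} (fun G _ => P52 G) where
  g2 := fun h => g2 h
  f4 := fun h => f4 h
  e6 := fun h => P52.of_row3 (Cfsg.Agent.H504.TC.row3_e6 h)
  e7 := fun h => P52.of_row3 (Cfsg.Agent.H504.TC.row3_e7 h)
  e8 := fun h => e8 h
  te6 := fun h => P52.of_row3 (Cfsg.Agent.H504.TC.row3_te6 h)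
  td4 := fun h => d4 h
  sz := fun h => P52.of_row3 (Cfsg.Agent.H937.TC.row3_sz h)
  ree := fun h => P52.of_row3 (Cfsg.Agent.H937.TC.row3_ree h)
  tf4 := fun h => tf4 h
  tits := fun h => P52.of_row3 (Cfsg.Agent.H110.TC6.row3_isoTits h)

end Cfsg.Agent.H142.TW
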