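import Cfsg.Agent.H860.TW.ClsRows
import Cfsg.Agent.H455.TW.Row
import Cfsg.Agent.H347.TC.GThree
import Cfsg.Agent.H137.G24.Fin
import Cfsg.Agent.H983.TC.Five
import Cfsg.Agent.H347.TC.GSeven
import Cfsg.Agent.H240.TW.Split
import Cfsg.Agent.H983.TC.Nine
import Cfsg.Agent.H675.TW.FEvenFull
import Cfsg.Agent.H885.FT.Plug
import Cfsg.Agent.H903.FFour.Row
import Cfsg.Agent.H572.FR.Fin
import Cfsg.Agent.H122.SX.EAll
import Cfsg.Agent.H932.TW.Row4
import Cfsg.Agent.H90.TC.D43Row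
import Cfsg.Agent.H880.TW.D42
import Cfsg.Agent.H315.TF8.Row
import Cfsg.Agent.H504.TC.ExcK
import Cfsg.Agent.H937.TC.RankOne
import Cfsg.Agent.H110.TC6.TwF

/-!
# S2452: the classical and the exceptional rows, no hypotheses (helper142)
-/

set_option autoImplicit false

namespace Cfsg.Agent.H142.TW

open Cfsg.Agent.H588.TW

universe u

/-- the classical rows -/
theorem cls_all : Cfsg.Agent.H459.Ore.ClsRows.{u} (fun G _ => T52 G) :=
  Cfsg.Agent.H860.TW.cls_full (fun _ _ _ _ hn hne hodd => Cfsg.Agent.H455.TW.t52_odd_even hodd hn hne)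

/-- `G₂(q)` -/
theorem t52_g2 {G : Type u} [Group G] (h : Lie.IsoChevG2 G) : T52 G := by
  obtain ⟨K, _, _, h3, ⟨e⟩⟩ := h
  refine T52.of_equiv e ?_
  by_cases k3 : Fintype.card K = 3
  · exact T52.of_row3 (Cfsg.Agent.H347.HX.G23.row3_g2_three K k3)
  by_cases k4 : Fintype.card K = 4
  · exact T52.of_row3 (Cfsg.Agent.H137.G24.row3_g2_four k4)
  by_cases k5 : Fintype.card K = 5
  · exact T52.of_row3 (Cfsg.Agent.H983.TC.Five.row3_g2_five_b k5)
  by_cases k7 : Fintype.card K = 7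
  · exact T52.of_row3 (Cfsg.Agent.H347.TC.GSeven.row3_g2_seven (by rw [Nat.card_eq_fintype_card, k7]))
  by_cases k8 : Fintype.card K = 8
  · exact T52.of_row3 (Cfsg.Agent.H240.TW.row3_G2_eight (by rw [Nat.card_eq_fintype_card, k8]))
  by_cases k6 : Fintype.card K = 6
  · exfalso
    have := FiniteField.isPrimePow_card K
    rw [k6] at this
    revert this
    norm_num [isPrimePow_nat_iff_bounded]
    decide
  exact T52.of_row3 (Cfsg.Agent.H983.TC.Glue.row3_g2_nine (by omega))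

/-- `F₄(q)` -/
theorem t52_f4 {G : Type u} [Group G] (h : Lie.IsoF4 G) : T52 G := by
  obtain ⟨K, _, _, ⟨e⟩⟩ := h
  refine T52.of_equiv e ?_
  rcases Nat.even_or_odd (Fintype.card K) with he | ho
  · exact Cfsg.Agent.H675.TW.t52_F4_even_full he
  by_cases k3 : Fintype.card K = 3
  · exact T52.of_row3 (Cfsg.Agent.H885.FT.row3_F4_three (by rw [Nat.card_eq_fintype_card, k3]))
  by_cases k5 : Fintype.card K = 5
  · exact T52.of_row3 (Cfsg.Agent.H903.FFour.row5 k5)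
  by_cases k7 : Fintype.card K = 7
  · exact T52.of_row3 (Cfsg.Agent.H903.FFour.row7 k7)
  refine T52.of_row3 (Cfsg.Agent.H572.FR.row3_F4_odd ho ?_)
  have h1 : 2 ≤ Fintype.card K := Fintype.one_lt_card
  obtain ⟨k, hk⟩ := ho
  omega

/-- `E₈(q)` -/
theorem t52_e8 {G : Type u} [Group G] (h : Lie.IsoE8 G) : T52 G := by
  obtain ⟨K, _, _, ⟨e⟩⟩ := h
  exact T52.of_equiv e (Cfsg.Agent.H860.TW.t52_of_pp (Cfsg.Agent.H122.SX.E127.pp_E8 K))

/-- `³D₄(q)` -/
theorem t52_td4 {G : Type u} [Group G] (h : Lie.Iso3D4 G) : T52 G := by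
  obtain ⟨K, _, _, q, hq, hK, ⟨e⟩⟩ := h
  by_cases k2 : q = 2
  · subst k2
    exact T52.of_equiv e (T52.of_row3 (Cfsg.Agent.H880.TW.row3_td4_two hK))
  by_cases k3 : q = 3
  · subst k3
    exact T52.of_equiv e (T52.of_row3 (Cfsg.Agent.H90.TC.D43.row3_td4_three hK))
  have h1 : 1 < q := hq.one_lt
  exact Cfsg.Agent.H932.TW.Row4.t52_td4_iso hq hK (by omega) e

/-- the exceptional rows -/
theorem exc_all : Cfsg.Agent.H459.Ore.ExcRows.{u} (fun G _ => T52 G) where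
  g2 := fun h => t52_g2 h
  f4 := fun h => t52_f4 h
  e6 := fun h => T52.of_row3 (Cfsg.Agent.H504.TC.row3_e6 h)
  e7 := fun h => T52.of_row3 (Cfsg.Agent.H504.TC.row3_e7 h)
  e8 := fun h => t52_e8 h
  te6 := fun h => T52.of_row3 (Cfsg.Agent.H504.TC.row3_te6 h)
  td4 := fun h => t52_td4 h
  sz := fun h => T52.of_row3 (Cfsg.Agent.H937.TC.row3_sz h)
  ree := fun h => T52.of_row3 (Cfsg.Agent.H937.TC.row3_ree h)
  tf4 := fun h => Cfsg.Agent.H315.TF8.t52_2f4 h
  tits := fun h => T52.of_row3 (Cfsg.Agent.H110.TC6.row3_isoTits h)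

end Cfsg.Agent.H142.TW
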