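import Cfsg.Agent.H142.TW.Exc

/-!
# S2452: the final case distinction (helper142)
-/

set_option autoImplicit false

namespace Cfsg.Agent.H142.TW

open Cfsg.Agent.H588.TW

universe u

/-- the sporadic rows from `Row3` -/
theorem p_spor (R : Cfsg.Agent.H459.Ore.SporRows.{u} (fun G _ => Cfsg.Agent.H210.TC.Row3 G)) :
    Cfsg.Agent.H459.Ore.SporRows.{u} (fun G _ => P52 G) where
  m11 := fun x => P52.of_row3 (R.m11 x)
  m12 := fun x => P52.of_row3 (R.m12 x)
  m22 := fun x => P52.of_row3 (R.m22 x)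
  m23 := fun x => P52.of_row3 (R.m23 x)
  m24 := fun x => P52.of_row3 (R.m24 x)
  j1 := fun x => P52.of_row3 (R.j1 x)
  j2 := fun x => P52.of_row3 (R.j2 x)
  j3 := fun x => P52.of_row3 (R.j3 x)
  j4 := fun x => P52.of_row3 (R.j4 x)
  co1 := fun x => P52.of_row3 (R.co1 x)
  co2 := fun x => P52.of_row3 (R.co2 x)
  co3 := fun x => P52.of_row3 (R.co3 x)
  mcL := fun x => P52.of_row3 (R.mcL x)
  hS := fun x => P52.of_row3 (R.hS x)
  suz := fun x => P52.of_row3 (R.suz x)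
  he := fun x => P52.of_row3 (R.he x)
  ru := fun x => P52.of_row3 (R.ru x)
  oN := fun x => P52.of_row3 (R.oN x)
  ly := fun x => P52.of_row3 (R.ly x)
  fi22 := fun x => P52.of_row3 (R.fi22 x)
  fi23 := fun x => P52.of_row3 (R.fi23 x)
  fi24 := fun x => P52.of_row3 (R.fi24 x)
  hN := fun x => P52.of_row3 (R.hN x)
  th := fun x => P52.of_row3 (R.th x)
  b := fun x => P52.of_row3 (R.b x)
  m := fun x => P52.of_row3 (R.m x)

/-- the conversion of a `T52` row -/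
theorem p_of_t52 {G : Type u} [Group G] (h : T52 G) : P52 G := fun _ => h

/-- **the final form of S2452** -/
theorem s2452_of (C : Cfsg.Agent.H459.Ore.ClsRows.{u} (fun G _ => P52 G))
    (E : Cfsg.Agent.H459.Ore.ExcRows.{u} (fun G _ => P52 G))
    (S : Cfsg.Agent.H459.Ore.SporRows.{u} (fun G _ => Cfsg.Agent.H210.TC.Row3 G))
    {G : Type u} [Group G] [Finite G] (hG : ¬ IsMulCommutative G) (hK : IsKnownSimple' G) :
    ∃ x y : G, (orderOf x).Prime ∧ ((orderOf y).Prime ∨ ∃ s₁ s₂ : ℕ, s₁.Prime ∧ s₂.Prime ∧ s₁ ≠ s₂ ∧ orderOf y = s₁ * s₂) ∧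
      (∀ g : G, g ≠ 1 → ∃ u v : G, g = (u * x * u⁻¹) * (v * y * v⁻¹)) ∧
      (∀ g : G, ∃ u v w : G, g = (u * x * u⁻¹) * (v * x * v⁻¹) * (w * x * w⁻¹)) :=
  Cfsg.Agent.H459.Ore.main (P := fun G _ => P52 G) C E (p_spor S) hG hK hG

end Cfsg.Agent.H142.TW
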