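import Cfsg.Agent.S0000
import Cfsg.Agent.OrdDiv.Table
import Cfsg.Agent.H981.TC.SporRow
import Cfsg.Agent.H588.TW.Defs

/-!
# S2452 from the classical and the exceptional rows (helper142)
-/

set_option autoImplicit false

namespace Cfsg.Agent.H142.TW

open Cfsg.Agent.H588.TW

universe u

/-- the sporadic rows from `Row3` -/
theorem t52_spor (R : Cfsg.Agent.H459.Ore.SporRows.{u} (fun G _ => Cfsg.Agent.H210.TC.Row3 G)) :
    Cfsg.Agent.H459.Ore.SporRows.{u} (fun G _ => T52 G) where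
  m11 := fun x => T52.of_row3 (R.m11 x)
  m12 := fun x => T52.of_row3 (R.m12 x)
  m22 := fun x => T52.of_row3 (R.m22 x)
  m23 := fun x => T52.of_row3 (R.m23 x)
  m24 := fun x => T52.of_row3 (R.m24 x)
  j1 := fun x => T52.of_row3 (R.j1 x)
  j2 := fun x => T52.of_row3 (R.j2 x)
  j3 := fun x => T52.of_row3 (R.j3 x)
  j4 := fun x => T52.of_row3 (R.j4 x)
  co1 := fun x => T52.of_row3 (R.co1 x)
  co2 := fun x => T52.of_row3 (R.co2 x)
  co3 := fun x => T52.of_row3 (R.co3 x)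
  mcL := fun x => T52.of_row3 (R.mcL x)
  hS := fun x => T52.of_row3 (R.hS x)
  suz := fun x => T52.of_row3 (R.suz x)
  he := fun x => T52.of_row3 (R.he x)
  ru := fun x => T52.of_row3 (R.ru x)
  oN := fun x => T52.of_row3 (R.oN x)
  ly := fun x => T52.of_row3 (R.ly x)
  fi22 := fun x => T52.of_row3 (R.fi22 x)
  fi23 := fun x => T52.of_row3 (R.fi23 x)
  fi24 := fun x => T52.of_row3 (R.fi24 x)
  hN := fun x => T52.of_row3 (R.hN x)
  th := fun x => T52.of_row3 (R.th x)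
  b := fun x => T52.of_row3 (R.b x)
  m := fun x => T52.of_row3 (R.m x)

/-- **S2452 from the classical and the exceptional rows** -/
theorem pre (C : Cfsg.Agent.H459.Ore.ClsRows.{u} (fun G _ => T52 G))
    (E : Cfsg.Agent.H459.Ore.ExcRows.{u} (fun G _ => T52 G))
    {S : Type u} [Group S] [Finite S] [IsSimpleGroup S] (hS : ¬ IsMulCommutative S) :
    ∃ x y : S, (orderOf x).Prime ∧ ((orderOf y).Prime ∨ ∃ s₁ s₂ : ℕ, s₁.Prime ∧ s₂.Prime ∧ s₁ ≠ s₂ ∧ orderOf y = s₁ * s₂) ∧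
      (∀ g : S, g ≠ 1 → ∃ u v : S, g = (u * x * u⁻¹) * (v * y * v⁻¹)) ∧
      (∀ g : S, ∃ u v w : S, g = (u * x * u⁻¹) * (v * x * v⁻¹) * (w * x * w⁻¹)) := by
  have B : Cfsg.Agent.H940.Eng.Base := ⟨Cfsg.Agent.OrdDiv.table, fun _ _ _ _ => Cfsg.Agent.S0000.result⟩
  have hK : Cfsg.Agent.H995.CopEngine.AllKnown.{0} := fun _ _ _ _ => Cfsg.Agent.S0000.result
  exact Cfsg.Agent.H459.Ore.main (P := fun G _ => T52 G) C E
    (t52_spor (Cfsg.Agent.H981.TC.SporRow.row3_spor hK B)) hS Cfsg.Agent.S0000.result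

end Cfsg.Agent.H142.TW
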